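import Mathlib

/-!
# Determinants of endomorphisms of contractible complexes

If `C` is a contractible complex of finite free `R`-modules, all but finitely many trivial, and
`U` is an endomorphism of it, then `∏_{i even} det(1 + Uᵢ) = ∏_{i odd} det(1 + Uᵢ)`.  Applied to the
cone of a homotopy equivalence, this gives the invariance of characteristic series.
-/

open LinearMap

namespace Groth.Agent.CharSeries

variable {R : Type*} [CommRing R]

/-- Weinstein–Aronszajn for linear maps between finite free modules. -/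
theorem det_one_add_comp_comm {M N : Type*} [AddCommGroup M] [Module R M] [Module.Free R M]
    [Module.Finite R M] [AddCommGroup N] [Module R N] [Module.Free R N] [Module.Finite R N]
    (P : N →ₗ[R] M) (Q : M →ₗ[R] N) :
    LinearMap.det (1 + P ∘ₗ Q) = LinearMap.det (1 + Q ∘ₗ P) := by
  classical
  let b := Module.Free.chooseBasis R M
  let c := Module.Free.chooseBasis R N
  rw [← det_toMatrix b, ← det_toMatrix c, map_add, map_add, toMatrix_comp b c b, toMatrix_comp c b c,
    toMatrix_one, toMatrix_one, Matrix.det_one_add_mul_comm]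

theorem det_one_add_eq_one {M N : Type*} [AddCommGroup M] [Module R M] [Module.Free R M]
    [Module.Finite R M] [AddCommGroup N] [Module R N] [Module.Free R N] [Module.Finite R N]
    (P : N →ₗ[R] M) (Q : M →ₗ[R] N) (h : Q ∘ₗ P = 0) : LinearMap.det (1 + P ∘ₗ Q) = 1 := by
  rw [det_one_add_comp_comm, h, add_zero, map_one]

/-- Triangular determinant for an idempotent `E` whose image is stable under `U`. -/
theorem det_one_add_of_idem {M : Type*} [AddCommGroup M] [Module R M] [Module.Free R M]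
    [Module.Finite R M] (U E : Module.End R M) (hE : E * E = E) (hEU : E * U * E = U * E) :
    LinearMap.det (1 + U) = LinearMap.det (1 + (1 - E) * U) * LinearMap.det (1 + U * E) := by
  have h1 : (1 - E) * E = 0 := by rw [sub_mul, one_mul, hE, sub_self]
  have h2 : (1 - E) * U * E = 0 := by rw [sub_mul, one_mul, sub_mul, hEU, sub_self]
  have hN : LinearMap.det (1 + E * U * (1 - E)) = 1 := by
    refine det_one_add_eq_one (E * U) (1 - E) ?_
    change (1 - E) * (E * U) = 0
    rw [← mul_assoc, h1, zero_mul]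
  have ha : (1 - E) * U * (E * U * (1 - E)) = 0 := by
    rw [← mul_assoc, ← mul_assoc, h2, zero_mul, zero_mul]
  have hb : (1 - E) * U * (U * E) = 0 := by
    rw [← hEU, ← mul_assoc, ← mul_assoc, h2, zero_mul, zero_mul]
  have hc : E * U * (1 - E) * (U * E) = 0 := by
    rw [mul_assoc (E * U) (1 - E), ← mul_assoc (1 - E), h2, mul_zero]
  have key : (1 + (1 - E) * U) * (1 + E * U * (1 - E)) * (1 + U * E) = 1 + U := by
    have : (1 + (1 - E) * U) * (1 + E * U * (1 - E)) * (1 + U * E) =
        1 + U + (U * E - E * U * E) + (1 - E) * U * (E * U * (1 - E)) + (1 - E) * U * (U * E) +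
          E * U * (1 - E) * (U * E) + (1 - E) * U * (E * U * (1 - E)) * (U * E) := by
      noncomm_ring
    rw [this, ha, hb, hc, hEU]; simp
  rw [← key, map_mul, map_mul, hN, mul_one]

variable (C : ℤ → Type*) [∀ i, AddCommGroup (C i)] [∀ i, Module R (C i)]
  [∀ i, Module.Free R (C i)] [∀ i, Module.Finite R (C i)]

/-- For a contractible complex, the products of `det(1 + U)` over even and odd degrees agree. -/
theorem even_eq_odd_of_contractible (D : ∀ i, C i →ₗ[R] C (i + 1))
    (S : ∀ i, C (i + 1) →ₗ[R] C i) (U : ∀ i, C i →ₗ[R] C i)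
    (hDD : ∀ i x, D (i + 1) (D i x) = 0)
    (hS : ∀ i x, D i (S i x) + S (i + 1) (D (i + 1) x) = x)
    (hU : ∀ i x, U (i + 1) (D i x) = D i (U i x))
    (hfin : {i | ¬ Subsingleton (C i)}.Finite) :
    ∏ᶠ i : {i : ℤ // Even i}, LinearMap.det (1 + U i.1) =
      ∏ᶠ i : {i : ℤ // Odd i}, LinearMap.det (1 + U i.1) := by
  let α : ℤ → R := fun i => LinearMap.det (1 + U i ∘ₗ (S i ∘ₗ D i))
  have hDSD : ∀ i x, D i (S i (D i x)) = D i x := fun i x => by
    have h := hS i (D i x)
    rwa [hDD, map_zero, add_zero] at h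
  have hstep : ∀ i, LinearMap.det (1 + U (i + 1)) = α (i + 1) * α i := by
    intro i
    let E : Module.End R (C (i + 1)) := D i ∘ₗ S i
    have hE : E * E = E := LinearMap.ext fun x => hDSD i (S i x)
    have hEU : E * U (i + 1) * E = U (i + 1) * E := LinearMap.ext fun x => by
      change D i (S i (U (i + 1) (D i (S i x)))) = U (i + 1) (D i (S i x))
      rw [hU, hDSD]
    have h1E : 1 - E = S (i + 1) ∘ₗ D (i + 1) := LinearMap.ext fun x => by
      change x - D i (S i x) = S (i + 1) (D (i + 1) x)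
      exact sub_eq_iff_eq_add'.2 (hS i x).symm
    rw [det_one_add_of_idem _ E hE hEU, h1E]
    congr 1
    · exact det_one_add_comp_comm (S (i + 1) ∘ₗ D (i + 1)) (U (i + 1))
    · have e1 : U (i + 1) ∘ₗ D i = D i ∘ₗ U i := LinearMap.ext fun x => hU i x
      change LinearMap.det (1 + U (i + 1) ∘ₗ (D i ∘ₗ S i)) = _
      rw [← LinearMap.comp_assoc, e1, LinearMap.comp_assoc, det_one_add_comp_comm,
        LinearMap.comp_assoc]
  have hF : ∀ j, LinearMap.det (1 + U j) = α j * α (j - 1) := fun j => by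
    obtain ⟨i, rfl⟩ : ∃ i, j = i + 1 := ⟨j - 1, by ring⟩
    rw [hstep, add_sub_cancel_right]
  have hα : ∀ i, Subsingleton (C i) → α i = 1 := fun i _ => det_eq_one_of_subsingleton _
  have hs : ∀ (q : ℤ → Prop) (g : ℤ → ℤ), Function.Injective g →
      (Function.mulSupport fun i : {i // q i} => α (g i.1)).Finite := fun q g hg => by
    refine ((hfin.preimage (hg.comp Subtype.val_injective).injOn)).subset fun i hi => ?_
    exact fun h => hi (hα _ h)
  have hodd : ∏ᶠ i : {i : ℤ // Even i}, α (i.1 - 1) = ∏ᶠ i : {i : ℤ // Odd i}, α i.1 := by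
    refine finprod_eq_of_bijective (fun i => ⟨i.1 - 1, i.2.sub_odd odd_one⟩) ⟨?_, ?_⟩ fun _ => rfl
    · intro a b h; exact Subtype.ext (by simpa using h)
    · intro a; exact ⟨⟨a.1 + 1, a.2.add_odd odd_one⟩, by simp⟩
  have heven : ∏ᶠ i : {i : ℤ // Odd i}, α (i.1 - 1) = ∏ᶠ i : {i : ℤ // Even i}, α i.1 := by
    refine finprod_eq_of_bijective (fun i => ⟨i.1 - 1, i.2.sub_odd odd_one⟩) ⟨?_, ?_⟩ fun _ => rfl
    · intro a b h; exact Subtype.ext (by simpa using h)
    · intro a; exact ⟨⟨a.1 + 1, a.2.add_odd odd_one⟩, by simp⟩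
  simp only [hF]
  have h0 : ∀ q : ℤ → Prop, (Function.mulSupport fun i : {i // q i} => α i.1).Finite := fun q =>
    hs q (fun i => i) fun _ _ h => h
  rw [finprod_mul_distrib (h0 _) (hs _ (fun i => i - 1) sub_left_injective),
    finprod_mul_distrib (h0 _) (hs _ (fun i => i - 1) sub_left_injective)]
  rw [hodd, heven, mul_comm]

/-- Invariance of `∏ det(1 + Uᵢ)^{(-1)^i}` under homotopy equivalences intertwining the
endomorphisms up to homotopy; everything is written degreewise. -/
theorem det_invariant (K K' : ℤ → Type*) [∀ i, AddCommGroup (K i)] [∀ i, Module R (K i)]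
    [∀ i, Module.Free R (K i)] [∀ i, Module.Finite R (K i)] [∀ i, AddCommGroup (K' i)]
    [∀ i, Module R (K' i)] [∀ i, Module.Free R (K' i)] [∀ i, Module.Finite R (K' i)]
    (d : ∀ i, K i →ₗ[R] K (i + 1)) (d' : ∀ i, K' i →ₗ[R] K' (i + 1))
    (f : ∀ i, K i →ₗ[R] K' i) (g : ∀ i, K' i →ₗ[R] K i)
    (h : ∀ i, K (i + 1) →ₗ[R] K i) (k : ∀ i, K' (i + 1) →ₗ[R] K' i)
    (η : ∀ i, K (i + 1) →ₗ[R] K' i) (U : ∀ i, K i →ₗ[R] K i) (U' : ∀ i, K' i →ₗ[R] K' i)
    (hdd : ∀ i x, d (i + 1) (d i x) = 0) (hdd' : ∀ i x, d' (i + 1) (d' i x) = 0)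
    (hf : ∀ i x, f (i + 1) (d i x) = d' i (f i x)) (hg : ∀ i x, g (i + 1) (d' i x) = d i (g i x))
    (hh : ∀ i x, g (i + 1) (f (i + 1) x) = h (i + 1) (d (i + 1) x) + d i (h i x) + x)
    (hk : ∀ i x, f (i + 1) (g (i + 1) x) = k (i + 1) (d' (i + 1) x) + d' i (k i x) + x)
    (hUd : ∀ i x, U (i + 1) (d i x) = d i (U i x))
    (hUd' : ∀ i x, U' (i + 1) (d' i x) = d' i (U' i x))
    (hη : ∀ i x, U' (i + 1) (f (i + 1) x) =
      η (i + 1) (d (i + 1) x) + d' i (η i x) + f (i + 1) (U (i + 1) x))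
    (hfin : {i | ¬ Subsingleton (K i)}.Finite) (hfin' : {i | ¬ Subsingleton (K' i)}.Finite) :
    (∏ᶠ i : {i : ℤ // Even i}, LinearMap.det (1 + U i.1)) *
        ∏ᶠ i : {i : ℤ // Odd i}, LinearMap.det (1 + U' i.1) =
      (∏ᶠ i : {i : ℤ // Odd i}, LinearMap.det (1 + U i.1)) *
        ∏ᶠ i : {i : ℤ // Even i}, LinearMap.det (1 + U' i.1) := by
  let μ : ∀ i, K (i + 1 + 1) →ₗ[R] K' (i + 1) := fun i =>
    f (i + 1) ∘ₗ h (i + 1) - k (i + 1) ∘ₗ f (i + 1 + 1)
  let D : ∀ i, (K (i + 1) × K' i) →ₗ[R] K (i + 1 + 1) × K' (i + 1) := fun i =>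
    (-(d (i + 1) ∘ₗ LinearMap.fst R _ _)).prod
      (f (i + 1) ∘ₗ LinearMap.fst R _ _ + d' i ∘ₗ LinearMap.snd R _ _)
  let z : ∀ i, (K (i + 1 + 1) × K' (i + 1)) →ₗ[R] K' (i + 1) := fun i =>
    LinearMap.snd R _ _ - μ i ∘ₗ LinearMap.fst R _ _
  let S : ∀ i, (K (i + 1 + 1) × K' (i + 1)) →ₗ[R] K (i + 1) × K' i := fun i =>
    (g (i + 1) ∘ₗ z i + h (i + 1) ∘ₗ LinearMap.fst R _ _).prod (-(k i ∘ₗ z i))
  let W : ∀ i, (K (i + 1) × K' i) →ₗ[R] K (i + 1) × K' i := fun i =>
    (U (i + 1) ∘ₗ LinearMap.fst R _ _).prod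
      (U' i ∘ₗ LinearMap.snd R _ _ + η i ∘ₗ LinearMap.fst R _ _)
  have hμ : ∀ i x, μ (i + 1) (d (i + 1 + 1) x) = -(d' (i + 1) (μ i x)) := by
    intro i x
    simp only [μ, LinearMap.sub_apply, LinearMap.comp_apply, map_sub, ← hf]
    have e1 := hh (i + 1) x
    have e2 := hk (i + 1) (f (i + 1 + 1) x)
    rw [← hf] at e2
    have e3 := congrArg (f (i + 1 + 1)) e1
    rw [map_add, map_add, e2, ← sub_eq_zero] at e3
    rw [← sub_eq_zero]
    refine Eq.trans ?_ (neg_eq_zero.2 e3)
    abel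
  have hfinC : {i | ¬ Subsingleton (K (i + 1) × K' i)}.Finite := by
    refine ((hfin.preimage (add_left_injective (1 : ℤ)).injOn).union hfin').subset fun i hi => ?_
    by_contra hcon
    simp only [Set.mem_union, Set.mem_preimage, Set.mem_ofPred_eq, not_or, not_not] at hcon
    have := hcon.1
    have := hcon.2
    exact hi inferInstance
  have key := even_eq_odd_of_contractible (fun i => K (i + 1) × K' i) D S W
    (fun i x => by
      apply Prod.ext <;> simp [D, hdd, hdd', hf])
    (fun i v => by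
      obtain ⟨x, y⟩ := v
      have hz : z (i + 1) (D (i + 1) (x, y)) = f (i + 1 + 1) x + d' (i + 1) (z i (x, y)) := by
        simp [z, D, hμ, map_sub]
        abel
      have e1 := hh (i + 1) x
      have e2 := hk i (z i (x, y))
      apply Prod.ext
      · change -(d (i + 1) (g (i + 1) (z i (x, y)) + h (i + 1) x)) +
          (g (i + 1 + 1) (z (i + 1) (D (i + 1) (x, y))) + h (i + 1 + 1) (-(d (i + 1 + 1) x))) = x
        rw [hz, map_add, map_add, map_neg, e1, hg]
        abel
      · change f (i + 1) (g (i + 1) (z i (x, y)) + h (i + 1) x) + d' i (-(k i (z i (x, y)))) +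
          -(k (i + 1) (z (i + 1) (D (i + 1) (x, y)))) = y
        rw [hz, map_add, map_add, map_neg, e2]
        simp only [z, μ, LinearMap.sub_apply, LinearMap.comp_apply, LinearMap.fst_apply,
          LinearMap.snd_apply]
        abel)
    (fun i v => by
      obtain ⟨x, y⟩ := v
      apply Prod.ext
      · simp [W, D, hUd]
      · change U' (i + 1) (f (i + 1) x + d' i y) + η (i + 1) (-(d (i + 1) x)) =
          f (i + 1) (U (i + 1) x) + d' i (U' i y + η i x)
        rw [map_add, map_add, map_neg, hη, hUd']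
        abel)
    hfinC
  have hdet : ∀ i, LinearMap.det (1 + W i) =
      LinearMap.det (1 + U (i + 1)) * LinearMap.det (1 + U' i) := by
    intro i
    let P : K (i + 1) →ₗ[R] K (i + 1) × K' i := LinearMap.inr R _ _ ∘ₗ η i
    have e : 1 + W i = LinearMap.prodMap (1 + U (i + 1)) (1 : Module.End R (K' i)) *
        ((1 : Module.End R (K (i + 1) × K' i)) + P ∘ₗ LinearMap.fst R _ _) *
        LinearMap.prodMap (1 : Module.End R (K (i + 1))) (1 + U' i) := by
      refine LinearMap.ext fun v => ?_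
      obtain ⟨x, y⟩ := v
      apply Prod.ext <;> simp [W, P, Module.End.mul_apply, add_assoc]
    have hP : LinearMap.det
        ((1 : Module.End R (K (i + 1) × K' i)) + P ∘ₗ LinearMap.fst R _ _) = 1 :=
      det_one_add_eq_one P (LinearMap.fst R _ _) (LinearMap.ext fun x => by simp [P])
    rw [e, map_mul, map_mul, hP, det_prodMap, det_prodMap, map_one, map_one]
    simp
  have hs : ∀ (q : ℤ → Prop),
      (Function.mulSupport fun i : {i // q i} => LinearMap.det (1 + U (i.1 + 1))).Finite ∧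
      (Function.mulSupport fun i : {i // q i} => LinearMap.det (1 + U' i.1)).Finite := fun q => by
    refine ⟨(hfin.preimage ((add_left_injective (1 : ℤ)).comp Subtype.val_injective).injOn).subset
      fun i hi => fun hsub => hi ?_, (hfin'.preimage Subtype.val_injective.injOn).subset
      fun i hi => fun hsub => hi ?_⟩
    · have : Subsingleton (K (i.1 + 1)) := hsub
      exact det_eq_one_of_subsingleton _
    · have : Subsingleton (K' i.1) := hsub
      exact det_eq_one_of_subsingleton _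
  simp only [hdet] at key
  rw [finprod_mul_distrib (hs _).1 (hs _).2, finprod_mul_distrib (hs _).1 (hs _).2] at key
  have hodd : ∏ᶠ i : {i : ℤ // Even i}, LinearMap.det (1 + U (i.1 + 1)) =
      ∏ᶠ i : {i : ℤ // Odd i}, LinearMap.det (1 + U i.1) := by
    refine finprod_eq_of_bijective (fun i => ⟨i.1 + 1, i.2.add_one⟩) ⟨?_, ?_⟩ fun _ => rfl
    · intro a b h; exact Subtype.ext (by simpa using h)
    · intro a; exact ⟨⟨a.1 - 1, a.2.sub_odd odd_one⟩, by simp⟩
  have heven : ∏ᶠ i : {i : ℤ // Odd i}, LinearMap.det (1 + U (i.1 + 1)) =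
      ∏ᶠ i : {i : ℤ // Even i}, LinearMap.det (1 + U i.1) := by
    refine finprod_eq_of_bijective (fun i => ⟨i.1 + 1, i.2.add_one⟩) ⟨?_, ?_⟩ fun _ => rfl
    · intro a b h; exact Subtype.ext (by simpa using h)
    · intro a; exact ⟨⟨a.1 - 1, a.2.sub_odd odd_one⟩, by simp⟩
  rw [hodd, heven] at key
  exact key.symm

end Groth.Agent.CharSeries
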